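import Cfsg.Agent.H597.R7.LineB

/-!
# `Fi24'`: elements whose cube is `y = X 3`: counting (helper509)

* `card_CK` : `|C(y) ∩ Fi24'| ≤ 153055008`;
* `count` : if the stabilizer of the point 4 in `C(y) ∩ Fi24'` carries the image of 4 under `g` to 16 points, then
  `|C(g) ∩ Fi24'| ≤ 9565938`;
* `of_y` : reduction of an arbitrary element of `Fi24'` with the cube conjugate to `X 3` or its inverse.
-/

set_option autoImplicit false
set_option maxRecDepth 100000

namespace Cfsg.Agent.H509.R7.Count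

open Subgroup
open Cfsg Cfsg.Agent.Fischer.Fi24Rep
open Cfsg.Agent.H597.R7.LineB (y y_cube X3_eq not_comm_t t1)
open Cfsg.Agent.H48.OreFi.NineA (two_mul_card_le card_N width_of)
open Cfsg.Spor (Fi24)

/-- the transpositions -/
local notation "LL" => (Cfsg.Agent.R08.FiTwentyFour.L : Set Fi24)

theorem count_aux {G : Type*} [Group G] [Finite G] (C H : Subgroup G) {g : G} (ρ : G →* Equiv.Perm ℕ) (p : ℕ)
    (O : Finset ℕ) (htr : ∀ q ∈ O, ∃ s ∈ C, ρ s p = p ∧ ρ s (ρ g p) = q) (hH : H ≤ C)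
    (hg : ∀ h ∈ H, h * g = g * h) : O.card * Nat.card H ≤ Nat.card C := by
  classical
  choose! s hs using htr
  let f : O × H → C := fun a => ⟨s a.1 * a.2, C.mul_mem (hs _ a.1.2).1 (hH a.2.2)⟩
  have hf : Function.Injective f := by
    rintro ⟨⟨q, hq⟩, ⟨h, hh⟩⟩ ⟨⟨q', hq'⟩, ⟨h', hh'⟩⟩ he
    have e1 : s q * h = s q' * h' := congrArg Subtype.val he
    have e2 : (s q)⁻¹ * s q' = h * h'⁻¹ := by
      rw [inv_mul_eq_iff_eq_mul, ← mul_assoc, e1]; group
    have c := hg _ (H.mul_mem hh (H.inv_mem hh'))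
    have p1 : ρ (h * h'⁻¹) p = p := by
      rw [← e2, map_mul, map_inv, Equiv.Perm.mul_apply, (hs _ hq').2.1, Equiv.Perm.inv_eq_iff_eq, (hs _ hq).2.1]
    have p2 : ρ (h * h'⁻¹) (ρ g p) = ρ g p := by
      rw [← Equiv.Perm.mul_apply, ← map_mul, c, map_mul, Equiv.Perm.mul_apply, p1]
    have p3 : ρ (s q') (ρ g p) = ρ (s q) (ρ g p) := by
      have : s q' = s q * (h * h'⁻¹) := by rw [← e2]; group
      rw [this, map_mul, Equiv.Perm.mul_apply, p2]
    rw [(hs _ hq').2.2, (hs _ hq).2.2] at p3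
    subst p3
    have e3 : h = h' := mul_left_cancel e1
    subst e3
    rfl
  have h := Nat.card_le_card_of_injective f hf
  rwa [Nat.card_prod, Nat.card_eq_fintype_card (α := O), Fintype.card_coe] at h

theorem y_ne : y ≠ 1 := by
  intro h
  apply not_comm_t
  rw [h]
  show t1 * (1 * t1 * 1⁻¹) = 1 * t1 * 1⁻¹ * t1
  rw [one_mul, inv_one, mul_one]

/-- the centralizer in `Fi24'`, as a subgroup of `Fi24` -/
noncomputable def CK (g : Fi24) : Subgroup Fi24 := centralizer ({g} : Set Fi24) ⊓ commutator Fi24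

theorem mem_CK {g x : Fi24} : x ∈ CK g ↔ Commute x g ∧ x ∈ commutator Fi24 := by
  show x ∈ centralizer ({g} : Set Fi24) ∧ x ∈ commutator Fi24 ↔ _
  rw [mem_centralizer_singleton_iff]
  rfl

theorem card_CK : Nat.card (CK y) ≤ 153055008 := by
  have hfin : Finite Fi24 := Cfsg.Agent.R08.FiTwentyFour.finite_Fi24
  have hs3 : y ^ 3 = 1 := y_cube
  have hs1 : y ≠ 1 := y_ne
  have ho3 : orderOf y = 3 := orderOf_eq_prime hs3 hs1
  have hcard : Nat.card (zpowers y) = 3 := by rw [Nat.card_zpowers, ho3]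
  have hw : Cfsg.commutingWidth (LL ∩ (Subgroup.centralizer ((zpowers y : Subgroup Fi24) : Set Fi24) : Set Fi24)) = 2 :=
    width_of (s := y) (y := 1) (i := 3) (Or.inl (by rw [X3_eq]; group))
  have hN := card_N (Cfsg.Agent.H832.WTwo.Main.main Cfsg.Agent.H49.Four.TEight.fgroup24 Cfsg.Agent.H49.Four.TEight.isT8
    (zpowers y) hcard hw)
  obtain ⟨t₁, t₂, hP⟩ := Cfsg.Agent.H832.WTwo.Uniq.exists_pair hw
  have c1 : Commute y t₁ := hP.cx _ (mem_zpowers _)
  let N : Subgroup Fi24 := normalizer ((zpowers y : Subgroup Fi24) : Set Fi24)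
  let C : Subgroup Fi24 := centralizer ({y} : Set Fi24)
  have hsgn : Cfsg.Agent.Fischer.Fi24Final.sgn t₁ = -1 := Cfsg.Agent.R08.FiTwentyFour.sgn_L hP.hx
  have l1 : 2 * Nat.card C ≤ Nat.card N := by
    obtain ⟨j, -, hjj, hj⟩ := Cfsg.Agent.H49.Four.ThreeInv.three_inv24 hs3
    have hmem : ∀ x : Fi24, x ∈ N ↔ x * y * x⁻¹ = y ∨ x * y * x⁻¹ = y⁻¹ := fun x =>
      Cfsg.Agent.H841.Tri.mem_norm_zp hs3 hs1
    have hji : ∀ j : Fi24, j * j = 1 → j⁻¹ = j := fun j h => inv_eq_of_mul_eq_one_left h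
    refine two_mul_card_le (x := j) ?_ ((hmem j).2 (Or.inr ?_)) ?_
    · intro x hx
      exact (hmem x).2 (Or.inl (mul_inv_eq_iff_eq_mul.2 (mem_centralizer_singleton_iff.1 hx)))
    · rw [hji j hjj, hj]
    · intro h
      have h1 : j * y = y * j := mem_centralizer_singleton_iff.1 h
      have h2 : y = y⁻¹ := by
        rw [← hj, h1, mul_assoc, hjj, mul_one]
      have h3 : y * y = 1 := by
        nth_rewrite 2 [h2]
        exact mul_inv_cancel _
      apply hs1
      rw [pow_succ, pow_two, h3, one_mul] at hs3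
      exact hs3
  have l2 : 2 * Nat.card (CK y) ≤ Nat.card C := by
    refine two_mul_card_le inf_le_left (x := t₁) (mem_centralizer_singleton_iff.2 c1.symm) ?_
    rintro ⟨-, h⟩
    have h' := Cfsg.Agent.R08.FiTwentyFour.mem_commutator_iff.1 h
    rw [hsgn] at h'
    exact absurd h' (by decide)
  have hN' : Nat.card N = 612220032 := hN
  omega

/-- **counting** -/
theorem count {g : Fi24} (h3 : g ^ 3 = y) (p : ℕ) (O : Finset ℕ) (hO : 16 ≤ O.card)
    (htr : ∀ q ∈ O, ∃ s ∈ commutator Fi24, Commute s y ∧ rho s p = p ∧ rho s (rho g p) = q) :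
    Nat.card (CK g) ≤ 9565938 := by
  have hfin : Finite Fi24 := Cfsg.Agent.R08.FiTwentyFour.finite_Fi24
  have h := count_aux (CK y) (CK g) (g := g) rho p O
    (fun q hq => by
      obtain ⟨s, h1, h2, h3, h4⟩ := htr q hq
      exact ⟨s, mem_CK.2 ⟨h2, h1⟩, h3, h4⟩)
    (fun x hx => by
      obtain ⟨h1, h2⟩ := mem_CK.1 hx
      refine mem_CK.2 ⟨?_, h2⟩
      rw [← h3]
      exact h1.pow_right 3)
    (fun x hx => (mem_CK.1 hx).1.eq)
  have h1 := card_CK
  have h2 : 16 * Nat.card (CK g) ≤ O.card * Nat.card (CK g) := Nat.mul_le_mul_right _ hO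
  omega

theorem card_sub (g : Spor.Fi24') : Nat.card (centralizer ({g} : Set Spor.Fi24')) ≤ Nat.card (CK (g : Fi24)) := by
  have hfin : Finite Fi24 := Cfsg.Agent.R08.FiTwentyFour.finite_Fi24
  have e1 : Nat.card (centralizer ({g} : Set Spor.Fi24')) =
      Nat.card ((centralizer ({g} : Set Spor.Fi24')).map (commutator Fi24).subtype) :=
    Nat.card_congr ((centralizer ({g} : Set Spor.Fi24')).equivMapOfInjective _
      (Subgroup.subtype_injective _)).toEquiv
  rw [e1]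
  apply Subgroup.card_le_of_le
  rintro _ ⟨x, hx, rfl⟩
  have hx' : x * g = g * x := mem_centralizer_singleton_iff.1 hx
  exact mem_CK.2 ⟨congrArg Subtype.val hx', x.2⟩

/-- conjugation -/
theorem card_conj (g z : Fi24) : Nat.card (CK g) ≤ Nat.card (CK (z * g * z⁻¹)) := by
  have hfin : Finite Fi24 := Cfsg.Agent.R08.FiTwentyFour.finite_Fi24
  have hn : (commutator Fi24).Normal := inferInstance
  refine Nat.card_le_card_of_injective (fun x : CK g => (⟨z * x * z⁻¹, mem_CK.2 ⟨?_, hn.conj_mem _ (mem_CK.1 x.2).2 z⟩⟩ :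
    CK (z * g * z⁻¹))) ?_
  · show z * x * z⁻¹ * (z * g * z⁻¹) = z * g * z⁻¹ * (z * x * z⁻¹)
    have h : (x : Fi24) * g = g * x := (mem_CK.1 x.2).1.eq
    calc z * x * z⁻¹ * (z * g * z⁻¹) = z * (x * g) * z⁻¹ := by group
      _ = z * (g * x) * z⁻¹ := by rw [h]
      _ = _ := by group
  · intro a b h
    have h1 : z * (a : Fi24) * z⁻¹ = z * b * z⁻¹ := congrArg Subtype.val h
    exact Subtype.ext (mul_left_cancel (mul_right_cancel h1))

theorem CK_inv (g : Fi24) : CK g⁻¹ = CK g := by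
  ext x
  rw [mem_CK, mem_CK, Commute.inv_right_iff]

/-- **reduction to the cube `y`** -/
theorem of_y {B : ℕ} (H : ∀ g : Fi24, g ^ 3 = y → Nat.card (CK g) ≤ B) {g : Spor.Fi24'}
    (hc : ∃ z : Fi24, z * (g : Fi24) ^ 3 * z⁻¹ = Cfsg.Agent.H842.ThreeCl.X 3 ∨
      z * (g : Fi24) ^ 3 * z⁻¹ = (Cfsg.Agent.H842.ThreeCl.X 3)⁻¹) :
    Nat.card (centralizer ({g} : Set Spor.Fi24')) ≤ B := by
  obtain ⟨z, hz⟩ := hc
  refine (card_sub g).trans ((card_conj (g : Fi24) z).trans ?_)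
  have e1 : (z * (g : Fi24) * z⁻¹) ^ 3 = z * (g : Fi24) ^ 3 * z⁻¹ := conj_pow
  rw [X3_eq, ← e1] at hz
  rcases hz with hz | hz
  · exact H _ hz
  · rw [← CK_inv]
    apply H
    rw [inv_pow, hz, inv_inv]

end Cfsg.Agent.H509.R7.Count
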